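import Groth.Prelude.Def_W4c1hurwitzcptBd
import Mathlib

set_option autoImplicit false
universe u

open MvPolynomial

namespace Groth.Agent.BasedAlgRepLib

open W4c1hurwitzcpt

variable (K : Type u) [Field K] (d : ℕ)

abbrev Var (d : ℕ) : Type := (Fin d × Fin d × Fin d) ⊕ Fin d

noncomputable def rel : Set (MvPolynomial (Var d) K) :=
  (Set.range fun p : Fin d × Fin d × Fin d => X (Sum.inl p) - X (Sum.inl (p.2.1, p.1, p.2.2))) ∪
  (Set.range fun p : Fin d × Fin d × Fin d × Fin d =>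
    (∑ k, X (Sum.inl (p.1, p.2.1, k)) * X (Sum.inl (k, p.2.2.1, p.2.2.2))) -
      ∑ k, X (Sum.inl (p.2.1, p.2.2.1, k)) * X (Sum.inl (p.1, k, p.2.2.2))) ∪
  (Set.range fun p : Fin d × Fin d =>
    (∑ i, X (Sum.inr i) * X (Sum.inl (i, p.1, p.2))) - if p.1 = p.2 then 1 else 0)

abbrev B : Type u := MvPolynomial (Var d) K ⧸ Ideal.span (rel K d)

noncomputable def univAlg : BasedAlg d (B K d) where
  c i j k := Ideal.Quotient.mk _ (X (Sum.inl (i, j, k)))
  u i := Ideal.Quotient.mk _ (X (Sum.inr i))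
  comm i j k := Ideal.Quotient.eq.mpr (Ideal.subset_span (Or.inl (Or.inl ⟨(i, j, k), rfl⟩)))
  assoc i j l m := by
    simp only [← map_mul, ← map_sum]
    exact Ideal.Quotient.eq.mpr (Ideal.subset_span (Or.inl (Or.inr ⟨(i, j, l, m), rfl⟩)))
  unit j m := by
    simp only [← map_mul, ← map_sum]
    rw [show (if j = m then (1 : B K d) else 0) = Ideal.Quotient.mk _ (if j = m then 1 else 0) by split <;> simp]
    exact Ideal.Quotient.eq.mpr (Ideal.subset_span (Or.inr ⟨(j, m), rfl⟩))

variable {K d}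

noncomputable def ev {A : Type u} [CommRing A] [Algebra K A] (s : BasedAlg d A) :
    MvPolynomial (Var d) K →ₐ[K] A :=
  aeval (Sum.elim (fun p => s.c p.1 p.2.1 p.2.2) s.u)

theorem ev_rel {A : Type u} [CommRing A] [Algebra K A] (s : BasedAlg d A) :
    ∀ x ∈ Ideal.span (rel K d), ev s x = 0 := by
  intro x hx
  refine (Ideal.span_le (I := RingHom.ker (ev (K := K) s))).mpr ?_ hx
  rintro x ((⟨⟨i, j, k⟩, rfl⟩ | ⟨⟨i, j, l, m⟩, rfl⟩) | ⟨⟨j, m⟩, rfl⟩) <;>
    simp only [SetLike.mem_coe, RingHom.mem_ker, ev, map_sub, map_sum, map_mul, aeval_X, Sum.elim_inl, Sum.elim_inr, sub_eq_zero]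
  · exact s.comm i j k
  · exact s.assoc i j l m
  · rw [s.unit]; split <;> simp

noncomputable def classify (A : Type u) [CommRing A] [Algebra K A] : (B K d →ₐ[K] A) ≃ BasedAlg d A where
  toFun g := (univAlg K d).map g.toRingHom
  invFun s := Ideal.Quotient.liftₐ _ (ev s) (ev_rel s)
  left_inv g := by
    refine Ideal.Quotient.algHom_ext _ (MvPolynomial.algHom_ext fun v => ?_)
    rcases v with p | i <;> simp [ev, univAlg, BasedAlg.map]
  right_inv s := by
    ext <;> simp [ev, univAlg, BasedAlg.map]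

theorem representable :
    ∃ (B : Type u) (_ : CommRing B) (_ : Algebra K B) (_ : Algebra.FiniteType K B)
      (η : ∀ (A : Type u) [CommRing A] [Algebra K A], (B →ₐ[K] A) ≃ BasedAlg d A),
      ∀ (A A' : Type u) [CommRing A] [Algebra K A] [CommRing A'] [Algebra K A']
        (f : A →ₐ[K] A') (g : B →ₐ[K] A),
        η A' (f.comp g) = (η A g).map f.toRingHom := by
  refine ⟨B K d, inferInstance, inferInstance, inferInstance, fun A _ _ => classify A, ?_⟩
  intro A A' _ _ _ _ f g
  rfl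

end Groth.Agent.BasedAlgRepLib
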